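import Groth.Agent.H16Derived.KFlat.StalkCriterion
import Groth.Agent.H29Omega.ConormalStalk
import Groth.Agent.H10Coh.Proper

/-!
# Skyscraper modules at closed points
-/

set_option autoImplicit false
set_option linter.style.haveILetI false
set_option backward.isDefEq.respectTransparency.types false

noncomputable section

universe u

open CategoryTheory CategoryTheory.Limits AlgebraicGeometry TopologicalSpace Opposite

namespace Groth.Agent.H10Coh.SkyMod

open Groth.Agent.H06Mod Groth.Agent.H16Derived.KFlat.Stalk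

variable {X : Scheme.{u}} (x : X) {A B C : Type u} [AddCommGroup A] [Module (X.presheaf.stalk x) A]
  [AddCommGroup B] [Module (X.presheaf.stalk x) B] [AddCommGroup C] [Module (X.presheaf.stalk x) C]

theorem skyMap_id : skyMap (LinearMap.id : A →ₗ[X.presheaf.stalk x] A) = 𝟙 (sky x A) := by
  refine Scheme.Modules.hom_ext _ _ fun U => ?_
  ext a
  refine skyEval_ext (N := A) x fun hx => ?_
  rw [skyEval_skyMap]
  rfl

/-- Skyscrapers of isomorphic modules. -/
def skyIso (e : A ≃ₗ[X.presheaf.stalk x] B) : sky x A ≅ sky x B where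
  hom := skyMap e.toLinearMap
  inv := skyMap e.symm.toLinearMap
  hom_inv_id := by rw [skyMap_comp, ← skyMap_id x]; exact congrArg skyMap (LinearMap.ext e.symm_apply_apply)
  inv_hom_id := by rw [skyMap_comp, ← skyMap_id x]; exact congrArg skyMap (LinearMap.ext e.apply_symm_apply)

variable (A) in
theorem isZero_sky [Subsingleton A] : IsZero (sky x A) :=
  H10Coh.isZero_of_sections _ fun _ => ⟨fun _ _ => skyEval_ext (N := A) x fun _ => Subsingleton.elim _ _⟩

theorem exists_shortExact_sky (f : A →ₗ[X.presheaf.stalk x] B) (g : B →ₗ[X.presheaf.stalk x] C)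
    (hf : Function.Injective f) (hg : Function.Surjective g) (hfg : Function.Exact f g) :
    ∃ w : skyMap f ≫ skyMap g = 0, (ShortComplex.mk (skyMap f) (skyMap g) w).ShortExact := by
  have w : skyMap f ≫ skyMap g = 0 := by
    rw [skyMap_comp, show g.comp f = 0 from LinearMap.ext hfg.apply_apply_eq_zero, skyMap_zero]
  refine ⟨w, { mono_f := mono_skyMap f hf, exact := ?_, epi_g := ?_ }⟩
  · refine exact_of_sections _ fun U b hb => ?_
    by_cases hx : x ∈ U
    · obtain ⟨a, ha⟩ := (hfg (skyEval x B U hx b)).1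
        ((skyEval_skyMap g U hx b).symm.trans ((congrArg (skyEval x C U hx) hb).trans (map_zero _)))
      refine ⟨fun _ => a, skyEval_ext (N := B) x fun hx' => ?_⟩
      exact (skyEval_skyMap f U hx' _).trans ha
    · exact ⟨0, skyEval_ext (N := B) x fun hx' => absurd hx' hx⟩
  · refine H29Omega.epi_of_surjective_stalkLin _ fun y c => ?_
    obtain ⟨U, hy, c, rfl⟩ := (sky x C).presheaf.exists_germ_eq c
    refine ⟨(sky x B).presheaf.germ U y hy (fun h => (hg (c h)).choose), ?_⟩
    rw [stalkLin_germ]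
    exact congrArg _ (skyEval_ext (N := C) x fun hx =>
      (skyEval_skyMap g U hx _).trans (hg (c ⟨⟨hx⟩⟩)).choose_spec)

variable (A) in
theorem subsingleton_stalk_sky (hcl : IsClosed ({x} : Set X)) {y : X} (hy : y ≠ x) :
    Subsingleton ((sky x A).presheaf.stalk y) := by
  refine subsingleton_of_forall_eq 0 fun a => ?_
  obtain ⟨U, hU, a, rfl⟩ := (sky x A).presheaf.exists_germ_eq a
  let W : X.Opens := U ⊓ ⟨{x}ᶜ, hcl.isOpen_compl⟩
  rw [← (sky x A).presheaf.germ_res_apply (homOfLE (inf_le_left : W ≤ U)) y ⟨hU, hy⟩ a,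
    show (sky x A).presheaf.map (homOfLE (inf_le_left : W ≤ U)).op a = 0 from
      skyEval_ext (N := A) x fun hx => absurd rfl hx.2]
  exact map_zero _

theorem epi_homOfStalk (hcl : IsClosed ({x} : Set X)) {F : X.Modules}
    (ψ : F.presheaf.stalk x →ₗ[X.presheaf.stalk x] A) (hψ : Function.Surjective ψ) : Epi (homOfStalk ψ) := by
  refine H29Omega.epi_of_surjective_stalkLin _ fun y c => ?_
  by_cases hy : y = x
  · subst hy
    obtain ⟨a, ha⟩ := hψ (skyStalk y A c)
    obtain ⟨V, hV, a, rfl⟩ := F.presheaf.exists_germ_eq a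
    refine ⟨F.presheaf.germ V y hV a, (skyStalk_bijective y A).1 ?_⟩
    rw [stalkLin_germ, skyStalk_germ, skyEval_homOfStalk, ha]
  · exact ⟨0, @Subsingleton.elim _ (subsingleton_stalk_sky x A hcl hy) _ _⟩

theorem skyStalk_stalkLin_homOfStalk {F : X.Modules} (ψ : F.presheaf.stalk x →ₗ[X.presheaf.stalk x] A)
    (a : F.presheaf.stalk x) : skyStalk x A (stalkLin (homOfStalk ψ) x a) = ψ a := by
  obtain ⟨V, hV, a, rfl⟩ := F.presheaf.exists_germ_eq a
  rw [stalkLin_germ, skyStalk_germ, skyEval_homOfStalk]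

theorem range_stalk_le_ker {F K : X.Modules} (ψ : F.presheaf.stalk x →ₗ[X.presheaf.stalk x] A)
    (a : K ⟶ F) (w : a ≫ homOfStalk ψ = 0) : LinearMap.range (stalkLin a x) ≤ LinearMap.ker ψ := by
  rintro _ ⟨v, rfl⟩
  rw [LinearMap.mem_ker, ← skyStalk_stalkLin_homOfStalk x ψ, ← H29Omega.stalkLin_comp, w]
  obtain ⟨U, hU, v, rfl⟩ := K.presheaf.exists_germ_eq v
  rw [stalkLin_germ, show Scheme.Modules.Hom.app (0 : K ⟶ sky x A) U v = 0 from rfl, map_zero, map_zero]

theorem smul_stalk_sky_eq_zero {r : X.presheaf.stalk x} (hr : ∀ a : A, r • a = 0)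
    (v : (sky x A).presheaf.stalk x) : r • v = 0 :=
  (skyStalk_bijective x A).1 (by rw [map_smul, map_zero, hr])

end Groth.Agent.H10Coh.SkyMod
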